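import Cfsg.Agent.Lib.Fus.Transv.Derived
import Cfsg.Agent.Lib.Fus.Transv.EnumL.LogLPart0

/-! A checked coset enumeration. -/

set_option autoImplicit false
set_option maxRecDepth 100000
set_option maxHeartbeats 4000000

namespace Cfsg.Agent.Fus.Transv.EnumL

open Cfsg.Agent.Spor.Cos

theorem logL_def0 : allBlock logL.chkDef 2392 512 0 = true := by decide +kernel

theorem logL_def1 : allBlock logL.chkDef 2392 512 1 = true := by decide +kernel

theorem logL_def2 : allBlock logL.chkDef 2392 512 2 = true := by decide +kernel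

theorem logL_def3 : allBlock logL.chkDef 2392 512 3 = true := by decide +kernel

theorem logL_def4 : allBlock logL.chkDef 2392 512 4 = true := by decide +kernel

theorem logL_defs : ∀ i, i + 1 < logL.M → logL.chkDef i = true := by
  intro i hi
  change i + 1 < 2393 at hi
  refine of_allBlock (n := 2392) (size := 512) (by decide) (fun j hj => ?_) (by omega)
  have hj' : j < 5 := by omega
  interval_cases j
  · exact logL_def0
  · exact logL_def1
  · exact logL_def2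
  · exact logL_def3
  · exact logL_def4

theorem logL_facts : ∀ i, logL.M ≤ i + 1 → i < logL.nF → ∃ J, logL.chkFact i J = true := by
  exact logL.facts_of_covers (Log.Covers.trans logL (Log.Covers.trans logL (logL.covers_of_part _ _ _ logL_part0) (Log.Covers.trans logL (logL.covers_of_part _ _ _ logL_part1) (logL.covers_of_part _ _ _ logL_part2))) (Log.Covers.trans logL (logL.covers_of_part _ _ _ logL_part3) (Log.Covers.trans logL (logL.covers_of_part _ _ _ logL_part4) (logL.covers_of_part _ _ _ logL_part5)))) rfl rfl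

theorem logL_final0 : allBlock logL.chkFinal 930 512 0 = true := by decide +kernel

theorem logL_final1 : allBlock logL.chkFinal 930 512 1 = true := by decide +kernel

theorem logL_checks : logL.Checks where
  pos := by decide +kernel
  defs := logL_defs
  facts := logL_facts
  final := by
    intro k hk
    change k < 155 * 6 at hk
    refine of_allBlock (n := 930) (size := 512) (by decide) (fun j hj => ?_) (by omega)
    have hj' : j < 2 := by omega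
    interval_cases j
    · exact logL_final0
    · exact logL_final1

theorem logL_derived : derivedAll 6 logLBase logL.rels [(4, 0, 0), (14, 0, 0), (4, 0, 0), (4, 0, 1), (0, 0, 0), (8, 2, 0), (7, 13, 0), (6, 4, 0), (7, 0, 0), (15, 12, 0), (13, 4, 1), (10, 0, 0), (0, 0, 2), (7, 1, 0), (10, 13, 0), (14, 4, 0), (6, 7, 0), (14, 1, 1), (14, 7, 0), (14, 5, 1), (14, 2, 1), (10, 14, 0), (0, 0, 2), (0, 0, 2), (0, 0, 2), (0, 0, 2), (0, 0, 2), (0, 0, 2), (11, 0, 0), (12, 5, 0), (15, 6, 0), (15, 2, 0), (17, 5, 0), (13, 5, 0), (6, 13, 0), (16, 12, 0), (16, 5, 0), (16, 2, 0), (14, 5, 0), (36, 1, 0), (12, 9, 0), (12, 7, 0), (11, 7, 0), (15, 13, 0), (15, 11, 0), (15, 5, 0), (17, 14, 0), (17, 10, 0), (13, 15, 0), (16, 8, 0), (20, 0, 0), (20, 30, 0), (0, 0, 1), (15, 11, 1), (14, 3, 0), (2, 0, 0), (16, 4, 0), (10, 11, 0), (7, 12, 1), (10, 5, 0), (14, 9, 0), (14, 1, 0), (14, 7, 1), (10, 9, 0), (6, 16, 0), (6, 12, 1), (19,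 0, 1), (14, 8, 1), (20, 8, 0), (20, 25, 1), (14, 9, 1), (14, 4, 1), (10, 6, 0), (14, 8, 0), (14, 6, 1), (6, 0, 0), (6, 3, 1), (9, 15, 0), (10, 2, 0), (16, 13, 1), (9, 7, 1), (13, 3, 0), (9, 3, 0), (8, 10, 0), (15, 8, 1), (16, 9, 0), (16, 12, 1), (14, 10, 1), (20, 13, 0), (18, 7, 0), (12, 1, 0), (17, 7, 0), (13, 14, 1), (18, 8, 0), (14, 2, 0), (14, 10, 0), (11, 9, 0), (12, 2, 0), (14, 6, 0), (6, 1, 0), (11, 12, 0), (16, 7, 0), (8, 15, 0), (7, 7, 0), (7, 13, 1), (6, 5, 0), (9, 13, 0), (12, 6, 0), (12, 10, 1), (9, 10, 1), (6, 12, 0), (6, 6, 1), (16, 7, 1), (9, 10, 0), (9, 5, 0), (9, 9, 1), (9, 1, 1), (8, 14, 0), (8, 5, 0), (8, 1, 1), (12, 8, 0), (12, 13, 1), (11, 8, 0), (15, 13, 1), (7, 12, 0), (7, 2, 1), (6, 8, 0), (6, 3, 0), (6, 15, 1), (6, 8, 1), (16, 9, 1), (9, 4, 0), (9, 3, 1), (8, 4, 0), (13, 15, 1), (9, 17, 0), (12, 0, 0), (12, 11, 0), (18, 1, 0), (11, 10, 0), (10, 15, 0), (8, 6, 0), (16, 10, 0),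 (14, 0, 0), (16, 0, 0), (12, 10, 0), (13, 8, 0), (16, 14, 0), (12, 11, 1), (15, 3, 0), (15, 1, 0), (13, 6, 0), (15, 10, 0), (18, 4, 0), (11, 14, 1), (13, 9, 0), (11, 6, 0), (13, 12, 0), (13, 1, 1), (12, 12, 0), (12, 13, 0), (11, 4, 0), (17, 13, 0), (13, 9, 1), (12, 3, 0), (11, 11, 0), (15, 6, 1), (12, 4, 0), (13, 12, 1), (13, 10, 1), (16, 15, 0), (15, 14, 0), (13, 13, 0), (13, 5, 1), (13, 2, 1), (11, 13, 0), (36, 0, 1), (11, 14, 0), (18, 5, 0), (18, 1, 1), (16, 14, 1), (15, 7, 0), (17, 15, 0), (17, 12, 0), (16, 6, 1), (15, 9, 0), (9, 12, 0), (15, 8, 0), (17, 3, 0), (17, 13, 1), (17, 4, 0), (15, 7, 1), (10, 7, 1), (9, 4, 1), (10, 16, 0), (9, 15, 1), (19, 2, 0), (20, 16, 1), (18, 9, 1), (20, 15, 0), (19, 1, 1), (20, 29, 1), (18, 9, 0), (7, 1, 1), (18, 8, 1), (20, 6, 1), (20, 22, 0), (2, 0, 1), (20, 14, 0), (19, 2, 1), (18, 4, 1), (20, 4, 1), (20, 11, 0), (20, 26, 0), (12, 8, 1), (20, 10, 0), (20, 27, 0),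 (19, 1, 0), (19, 0, 0), (9, 0, 1), (8, 17, 1), (6, 7, 1), (20, 19, 0), (7, 9, 0), (14, 3, 1), (7, 11, 0), (13, 7, 0), (8, 17, 0), (6, 5, 1), (6, 2, 1), (11, 5, 0), (8, 0, 1), (9, 0, 0), (8, 5, 1), (6, 2, 0), (7, 0, 1), (7, 7, 1), (7, 2, 0), (10, 4, 0), (17, 6, 0), (7, 4, 0), (7, 14, 1), (7, 9, 1), (6, 15, 0), (6, 11, 0), (10, 12, 0), (9, 9, 0), (21, 0, 0), (25, 104, 0), (25, 86, 0), (14, 0, 1), (36, 2, 0), (36, 2, 1), (11, 3, 0), (11, 7, 1), (17, 12, 1), (13, 7, 1), (7, 15, 0), (16, 11, 1), (11, 1, 0), (15, 10, 1), (17, 9, 0), (13, 4, 0), (13, 1, 0), (16, 3, 0), (16, 15, 1), (20, 22, 1), (36, 0, 0), (15, 0, 0), (20, 5, 0), (36, 1, 1), (20, 28, 1), (13, 11, 0), (25, 52, 0), (25, 71, 1), (13, 0, 0), (13, 6, 1), (20, 23, 0), (24, 84, 0), (24, 64, 1), (25, 109, 0), (25, 90, 0), (25, 56, 0), (25, 54, 0), (25, 49, 0), (25, 41, 0), (25, 20, 0), (25, 1, 0), (25, 92, 1), (25, 43, 1), (25, 42, 1), (22, 1, 0)]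 = true := by decide +kernel

end Cfsg.Agent.Fus.Transv.EnumL
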